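import Mathlib
import Cfsg.Agent.H91.EP.Lin

/-!
# S3499-III, linear rows L9 and L10 (class C8 over the fields of order 2 and 4)

`kill_N`: norm kill for a similarity group; `y ∈ Γ` with `f(yu, yw) = f(u + Nu, w)`, `N³ = 0`, and an isometry
`g ∈ Γ` with `g N g⁻¹ = N + N²`.
-/

set_option autoImplicit false

namespace Cfsg.Agent.H88.EP

open Cfsg Cfsg.Geo Cfsg.Agent.H91.EP
open scoped MatrixGroups Matrix

variable {ι : Type} [Fintype ι] [DecidableEq ι] {F : Type*} [Field F]

/-- action of a matrix, as a linear map -/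
theorem act_mul (a b : GL ι F) (u : ι → F) :
    ((a * b : GL ι F) : Matrix ι ι F) *ᵥ u = (a : Matrix ι ι F) *ᵥ ((b : Matrix ι ι F) *ᵥ u) := by
  rw [Units.val_mul, Matrix.mulVec_mulVec]

theorem act_inv (a : GL ι F) (u : ι → F) :
    ((a⁻¹ : GL ι F) : Matrix ι ι F) *ᵥ ((a : Matrix ι ι F) *ᵥ u) = u := by
  rw [← act_mul, inv_mul_cancel, Units.val_one, Matrix.one_mulVec]

theorem act_inv' (a : GL ι F) (u : ι → F) :
    (a : Matrix ι ι F) *ᵥ (((a⁻¹ : GL ι F) : Matrix ι ι F) *ᵥ u) = u := by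
  rw [← act_mul, mul_inv_cancel, Units.val_one, Matrix.one_mulVec]

omit [Fintype ι] [DecidableEq ι] in
/-- cancellation in a non-degenerate form, linear in the first variable -/
theorem eq_of_form {f : (ι → F) → (ι → F) → F} (hadd : ∀ x y v, f (x + y) v = f x v + f y v)
    (hsm : ∀ (c : F) (x v : ι → F), f (c • x) v = c * f x v) (hnd : IsNondegenerateForm f)
    {a b : ι → F} (h : ∀ w, f a w = f b w) : a = b := by
  by_contra hne
  obtain ⟨x, hx⟩ := (hnd (a - b) (sub_ne_zero.2 hne)).2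
  apply hx
  have h1 : f (a - b) x = f a x + (-1) * f b x := by
    rw [← hsm, ← hadd]
    congr 1
    module
  rw [h1, h x]
  ring

/-- criterion: `m` and `y m y⁻¹` similarities ⇒ `m` commutes with `N` -/
theorem comm_of {f : (ι → F) → (ι → F) → F} (hadd : ∀ x y v, f (x + y) v = f x v + f y v)
    (hsm : ∀ (c : F) (x v : ι → F), f (c • x) v = c * f x v) (hnd : IsNondegenerateForm f)
    {y m : GL ι F} {N : (ι → F) →ₗ[F] (ι → F)}
    (hy : ∀ u w, f ((y : Matrix ι ι F) *ᵥ u) ((y : Matrix ι ι F) *ᵥ w) = f (u + N u) w)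
    (hN3 : ∀ u, N (N (N u)) = 0) (hv : ∃ v, v ≠ 0 ∧ N v = 0)
    (hm : m ∈ similarityGroup f) (hm' : y * m * y⁻¹ ∈ similarityGroup f) (u : ι → F) :
    N ((m : Matrix ι ι F) *ᵥ u) = (m : Matrix ι ι F) *ᵥ (N u) := by
  obtain ⟨c, hc⟩ := hm
  obtain ⟨d, hd⟩ := hm'
  have h1 : ∀ u w, f ((m : Matrix ι ι F) *ᵥ u + N ((m : Matrix ι ι F) *ᵥ u)) ((m : Matrix ι ι F) *ᵥ w) =
      d * f (u + N u) w := by
    intro u w
    have h := hd ((y : Matrix ι ι F) *ᵥ u) ((y : Matrix ι ι F) *ᵥ w)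
    rw [act_mul, act_mul, act_mul, act_mul, act_inv, act_inv, hy, hy] at h
    exact h
  have h2 : ∀ u, (m : Matrix ι ι F) *ᵥ u + N ((m : Matrix ι ι F) *ᵥ u) =
      ((c : F)⁻¹ * d) • ((m : Matrix ι ι F) *ᵥ (u + N u)) := by
    intro u
    refine eq_of_form hadd hsm hnd fun w => ?_
    have h := h1 u (((m⁻¹ : GL ι F) : Matrix ι ι F) *ᵥ w)
    rw [act_inv'] at h
    rw [h, hsm]
    have h' := hc (u + N u) (((m⁻¹ : GL ι F) : Matrix ι ι F) *ᵥ w)
    rw [act_inv'] at h'
    rw [h']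
    have hc0 : (c : F) ≠ 0 := c.ne_zero
    field_simp
  set e : F := (c : F)⁻¹ * d with he
  have h3 : e = 1 := by
    obtain ⟨v, hv0, hv⟩ := hv
    have h := h2 v
    rw [hv, add_zero] at h
    set t : ι → F := (m : Matrix ι ι F) *ᵥ v with ht
    have ht0 : t ≠ 0 := by
      intro h0
      apply hv0
      rw [← act_inv m v, ← ht, h0, Matrix.mulVec_zero]
    have h4 : N t = (e - 1) • t := by
      rw [sub_smul, one_smul, ← h]
      abel
    have h5 : N (N (N t)) = ((e - 1) ^ 3) • t := by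
      rw [h4, map_smul, map_smul, h4, map_smul, h4, smul_smul, smul_smul]
      congr 1
      ring
    rw [hN3] at h5
    have h6 := (smul_eq_zero.1 h5.symm).resolve_right ht0
    exact sub_eq_zero.1 (pow_eq_zero_iff (by norm_num) |>.1 h6)
  have h := h2 u
  rw [h3, one_smul, Matrix.mulVec_add] at h
  exact add_left_cancel h

/-- converse of `comm_of` -/
theorem mem_of_comm {f : (ι → F) → (ι → F) → F} {y m : GL ι F} {N : (ι → F) →ₗ[F] (ι → F)}
    (hy : ∀ u w, f ((y : Matrix ι ι F) *ᵥ u) ((y : Matrix ι ι F) *ᵥ w) = f (u + N u) w)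
    (hm : m ∈ similarityGroup f) (hc : ∀ u, N ((m : Matrix ι ι F) *ᵥ u) = (m : Matrix ι ι F) *ᵥ (N u)) :
    y * m * y⁻¹ ∈ similarityGroup f := by
  obtain ⟨c, hc'⟩ := hm
  refine ⟨c, fun u w => ?_⟩
  rw [act_mul, act_mul, act_mul, act_mul, hy, hc, ← Matrix.mulVec_add, hc']
  congr 1
  have h := hy (((y⁻¹ : GL ι F) : Matrix ι ι F) *ᵥ u) (((y⁻¹ : GL ι F) : Matrix ι ι F) *ᵥ w)
  rw [act_inv', act_inv'] at h
  exact h.symm

/-- **The `N`-kill.** -/
theorem kill_N {Γ A : Subgroup (GL ι F)} (h : EPL Γ A) {f : (ι → F) → (ι → F) → F}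
    (hadd : ∀ x y v, f (x + y) v = f x v + f y v)
    (hsm : ∀ (c : F) (x v : ι → F), f (c • x) v = c * f x v) (hnd : IsNondegenerateForm f)
    (hA : A ≤ similarityGroup f) {y g : GL ι F} {N : (ι → F) →ₗ[F] (ι → F)}
    (hyΓ : y ∈ Γ) (hgΓ : g ∈ Γ)
    (hy : ∀ u w, f ((y : Matrix ι ι F) *ᵥ u) ((y : Matrix ι ι F) *ᵥ w) = f (u + N u) w)
    (hg : ∀ u w, f ((g : Matrix ι ι F) *ᵥ u) ((g : Matrix ι ι F) *ᵥ w) = f u w)
    (hN3 : ∀ u, N (N (N u)) = 0) (hN2 : ∃ u, N (N u) ≠ 0)
    (hgN : ∀ u, (g : Matrix ι ι F) *ᵥ (N u) = N ((g : Matrix ι ι F) *ᵥ u) + N (N ((g : Matrix ι ι F) *ᵥ u))) :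
    False := by
  obtain ⟨u0, hu0⟩ := hN2
  have hv : ∃ v, v ≠ 0 ∧ N v = 0 := ⟨N (N u0), hu0, hN3 u0⟩
  have hgM : g ∈ similarityGroup f := ⟨1, fun u w => by rw [hg, Units.val_one, one_mul]⟩
  refine h.kill hA (x := y⁻¹) (g := g) (Γ.inv_mem hyΓ) ?_ hgΓ hgM ?_ ?_
  · intro hc
    have hc2 : y ∈ similarityGroup f := by simpa using (similarityGroup f).inv_mem hc
    obtain ⟨c, hc3⟩ := hc2
    have h1 : ∀ u, u + N u = (c : F) • u := fun u => eq_of_form hadd hsm hnd fun w => by
      rw [← hy, hc3, hsm]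
    have h2 := h1 (N (N u0))
    rw [hN3, add_zero] at h2
    have h3 : (c : F) = 1 := by
      have h4 : ((c : F) - 1) • N (N u0) = 0 := by
        rw [sub_smul, one_smul, ← h2, sub_self]
      exact sub_eq_zero.1 ((smul_eq_zero.1 h4).resolve_right hu0)
    have h5 := h1 (N u0)
    rw [h3, one_smul] at h5
    exact hu0 (by simpa using h5)
  · intro hc
    rw [inv_inv] at hc
    have h1 := comm_of hadd hsm hnd hy hN3 hv hgM hc
    have h2 := hgN ((((g⁻¹ : GL ι F) : Matrix ι ι F)) *ᵥ u0)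
    rw [← h1, act_inv'] at h2
    exact hu0 (by simpa using h2)
  · intro m _ hm hm'
    rw [inv_inv] at hm' ⊢
    have h1 := comm_of hadd hsm hnd hy hN3 hv hm hm'
    have hgi : ∀ u, (((g⁻¹ : GL ι F) : Matrix ι ι F)) *ᵥ (N u + N (N u)) =
        N ((((g⁻¹ : GL ι F) : Matrix ι ι F)) *ᵥ u) := by
      intro u
      have h2 := hgN ((((g⁻¹ : GL ι F) : Matrix ι ι F)) *ᵥ u)
      rw [act_inv'] at h2
      rw [← h2, act_inv]
    -- the operator `k = g m g⁻¹` commutes with `P = N + N²`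
    set k : GL ι F := g * m * g⁻¹ with hk
    have h3 : ∀ u, (k : Matrix ι ι F) *ᵥ (N u + N (N u)) =
        N ((k : Matrix ι ι F) *ᵥ u) + N (N ((k : Matrix ι ι F) *ᵥ u)) := by
      intro u
      rw [hk, act_mul, act_mul, hgi, ← h1, act_mul, act_mul, hgN]
    have h4 : ∀ u, (k : Matrix ι ι F) *ᵥ (N (N u)) = N (N ((k : Matrix ι ι F) *ᵥ u)) := by
      intro u
      have h5 := h3 (N u + N (N u))
      rw [h3 u] at h5
      simp only [map_add, hN3, add_zero] at h5
      exact h5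
    refine mem_of_comm hy ((similarityGroup f).mul_mem ((similarityGroup f).mul_mem hgM hm)
      ((similarityGroup f).inv_mem hgM)) fun u => ?_
    have h5 := h3 u
    rw [Matrix.mulVec_add, h4] at h5
    exact (add_right_cancel h5).symm

/-- an operator of order dividing 4, as an element of `GL` -/
noncomputable def ofL (L : (ι → F) →ₗ[F] (ι → F)) (h : ∀ u, L (L (L (L u))) = u) : GL ι F where
  val := LinearMap.toMatrix' L
  inv := LinearMap.toMatrix' (L ∘ₗ L ∘ₗ L)
  val_inv := by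
    rw [← LinearMap.toMatrix'_comp, ← LinearMap.toMatrix'_id]
    congr 1
    exact LinearMap.ext fun u => h u
  inv_val := by
    rw [← LinearMap.toMatrix'_comp, ← LinearMap.toMatrix'_id]
    congr 1
    exact LinearMap.ext fun u => h u

theorem ofL_act (L : (ι → F) →ₗ[F] (ι → F)) (h : ∀ u, L (L (L (L u))) = u) (u : ι → F) :
    ((ofL L h : GL ι F) : Matrix ι ι F) *ᵥ u = L u := by
  show LinearMap.toMatrix' L *ᵥ u = L u
  rw [← Matrix.toLin'_apply, Matrix.toLin'_toMatrix']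

theorem ofL_pow (L : (ι → F) →ₗ[F] (ι → F)) (h : ∀ u, L (L (L (L u))) = u) : ofL L h ^ 4 = 1 := by
  apply Units.ext
  apply Matrix.toLin'.injective
  apply LinearMap.ext
  intro u
  rw [Matrix.toLin'_apply, show (4 : ℕ) = 1 + 1 + 1 + 1 from rfl, pow_add, pow_add, pow_add, pow_one, act_mul, act_mul,
    act_mul, ofL_act, ofL_act, ofL_act, ofL_act, h]
  simp

/-- determinant one, for a unit exponent prime to 4 -/
theorem ofL_mem (L : (ι → F) →ₗ[F] (ι → F)) (h : ∀ u, L (L (L (L u))) = u) (hF : ∀ c : Fˣ, c ^ 3 = 1) :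
    ofL L h ∈ specialLinear ι F := by
  have h1 : Matrix.GeneralLinearGroup.det (ofL L h) ^ 4 = 1 := by rw [← map_pow, ofL_pow, map_one]
  have h2 := hF (Matrix.GeneralLinearGroup.det (ofL L h))
  rw [pow_succ, h2, one_mul] at h1
  exact h1

/-! ### L9: `F = F₄`, unitary form -/

/-- `u ↦ u + f(u,w0) v` etc.: the linear map `u ↦ Σ f(u, a i) • b i` -/
def rk1 {f : (ι → F) → (ι → F) → F} (hadd : ∀ x y v, f (x + y) v = f x v + f y v)
    (hsm : ∀ (c : F) (x v : ι → F), f (c • x) v = c * f x v) (a b : ι → F) : (ι → F) →ₗ[F] (ι → F) where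
  toFun u := f u a • b
  map_add' x y := by rw [hadd, add_smul]
  map_smul' c x := by rw [hsm, mul_smul, RingHom.id_apply]

omit [DecidableEq ι] in
theorem exists_perp [Finite F] {f : (ι → F) → (ι → F) → F} (hadd : ∀ x y v, f (x + y) v = f x v + f y v)
    (hsm : ∀ (c : F) (x v : ι → F), f (c • x) v = c * f x v) {k : ℕ} (hk : k < Fintype.card ι) (a : Fin k → ι → F) :
    ∃ u : ι → F, u ≠ 0 ∧ ∀ i, f u (a i) = 0 := by
  let L : (ι → F) →ₗ[F] (Fin k → F) :=
    { toFun := fun u i => f u (a i)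
      map_add' := fun x y => funext fun i => hadd x y (a i)
      map_smul' := fun c x => funext fun i => hsm c x (a i) }
  have h1 : LinearMap.ker L ≠ ⊥ := LinearMap.ker_ne_bot_of_finrank_lt (by simpa using hk)
  obtain ⟨u, hu, hu0⟩ := Submodule.exists_mem_ne_zero_of_ne_bot h1
  exact ⟨u, hu0, fun i => congrFun (LinearMap.mem_ker.1 hu) i⟩

theorem L9 [Finite F] {A : Subgroup (GL ι F)} (hn : 3 ≤ Fintype.card ι) (h : EPL (specialLinear ι F) A)
    (hF : Nat.card F = 4) {σ : F ≃+* F}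
    {f : (ι → F) → (ι → F) → F} (hf : IsUnitaryForm σ f) (hA : A ≤ similarityGroup f) : False := by
  classical
  have hadd := hf.add_left
  have hsm := hf.smul_left
  have hnd := hf.nondegenerate
  have hherm := hf.herm
  have : Fintype F := Fintype.ofFinite F
  have hF' : Fintype.card F = 4 := by rw [← Nat.card_eq_fintype_card, hF]
  -- characteristic two
  have h2 : (2 : F) = 0 := by
    have h4 : ((4 : ℕ) : F) = 0 := by rw [← hF']; exact FiniteField.cast_card_eq_zero F
    have h5 : (2 : F) ^ 2 = 0 := by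
      rw [← h4]; norm_num
    exact pow_eq_zero_iff (by norm_num) |>.1 h5
  have hu3 : ∀ c : Fˣ, c ^ 3 = 1 := by
    intro c
    have := FiniteField.pow_card_sub_one_eq_one (c : F) c.ne_zero
    rw [hF'] at this
    exact Units.ext (by simpa using this)
  have hp4 : ∀ c : F, c ^ 4 = c := by
    intro c
    have := FiniteField.pow_card c
    rwa [hF'] at this
  -- a primitive cube root of unity
  obtain ⟨ω, hω0, hω1⟩ : ∃ ω : F, ω ≠ 0 ∧ ω ≠ 1 := by
    by_contra hc
    simp only [not_exists, not_and, not_not] at hc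
    have h1 : (Finset.univ : Finset F) ⊆ {0, 1} := by
      intro a _
      by_cases ha : a = 0
      · simp [ha]
      · simp [hc a ha]
    have h3 := Finset.card_le_card h1
    rw [Finset.card_univ, hF'] at h3
    have h4 : ({0, 1} : Finset F).card ≤ 2 := Finset.card_le_two
    omega
  have hω : ω ^ 2 + ω + 1 = 0 := by
    have h1 : ω ^ 3 = 1 := by
      have := hu3 (Units.mk0 ω hω0)
      exact congrArg Units.val this
    have h3 : (ω - 1) * (ω ^ 2 + ω + 1) = 0 := by linear_combination h1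
    exact (mul_eq_zero.1 h3).resolve_left (sub_ne_zero.2 hω1)
  -- the elements of `F`
  have hel : ∀ a : F, a = 0 ∨ a = 1 ∨ a = ω ∨ a = ω ^ 2 := by
    intro a
    by_contra hc
    simp only [not_or] at hc
    obtain ⟨h0, h1, h3, h4⟩ := hc
    have h5 : a ^ 4 - a = 0 := by rw [hp4, sub_self]
    have h6 : a * (a - 1) * (a - ω) * (a - ω ^ 2) = 0 := by
      linear_combination h5 + (a * (a - 1) * (-a + ω - 1)) * hω
    simp only [mul_eq_zero, sub_eq_zero, h0, h1, h3, h4, or_self] at h6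
  have hσω : σ ω = ω ^ 2 := by
    rcases hel (σ ω) with h1 | h1 | h1 | h1
    · exact absurd ((map_eq_zero_iff σ σ.injective).1 h1) hω0
    · exact absurd ((map_eq_one_iff σ σ.injective).1 h1) hω1
    · exfalso
      apply hf.ne_refl
      ext a
      rcases hel a with rfl | rfl | rfl | rfl <;> simp [h1]
    · exact h1
  have hfix : ∀ a : F, σ a = a → a = 0 ∨ a = 1 := by
    intro a ha
    rcases hel a with h1 | h1 | h1 | h1
    · exact Or.inl h1
    · exact Or.inr h1
    · exfalso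
      rw [h1, hσω] at ha
      have h3 : ω * (ω - 1) = 0 := by linear_combination ha
      exact (mul_ne_zero hω0 (sub_ne_zero.2 hω1)) h3
    · exfalso
      rw [h1, map_pow, hσω, ← pow_mul, hp4] at ha
      have h3 : ω * (ω - 1) = 0 := by linear_combination -ha
      exact (mul_ne_zero hω0 (sub_ne_zero.2 hω1)) h3
  have haddr : ∀ v x y, f v (x + y) = f v x + f v y := fun v x y => by
    rw [hherm, hadd, map_add, ← hherm, ← hherm]
  have hsmr : ∀ (c : F) (v x : ι → F), f v (c • x) = σ c * f v x := fun c v x => by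
    rw [hherm, hsm, map_mul, ← hherm]
  have hself : ∀ v, f v v = 0 ∨ f v v = 1 := fun v => hfix _ (hherm v v).symm
  have hne : ∃ u : ι → F, u ≠ 0 := by
    obtain ⟨i⟩ : Nonempty ι := Fintype.card_pos_iff.1 (by omega)
    exact ⟨Pi.single i 1, by simp⟩
  -- an anisotropic vector
  obtain ⟨w0, hw0⟩ : ∃ w0, f w0 w0 = 1 := by
    by_contra hc
    simp only [not_exists] at hc
    have h0 : ∀ w, f w w = 0 := fun w => (hself w).resolve_right (hc w)
    have h1 : ∀ u w, f u w + f w u = 0 := by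
      intro u w
      have h3 := h0 (u + w)
      rw [hadd, haddr, haddr, h0, h0] at h3
      linear_combination h3
    have h3 : ∀ u w, f u w = 0 := by
      intro u w
      have h4 := h1 u w
      have h5 := h1 (ω • u) w
      rw [hsm, hsmr, hσω] at h5
      have h6 : ω * (ω - 1) * f u w = 0 := by linear_combination ω ^ 2 * h4 - h5
      exact (mul_eq_zero.1 h6).resolve_left (mul_ne_zero hω0 (sub_ne_zero.2 hω1))
    obtain ⟨u, hu⟩ := hne
    obtain ⟨x, hx⟩ := (hnd u hu).1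
    exact hx (h3 _ _)
  -- a singular vector perpendicular to it
  obtain ⟨v, hv0, hvv, hvw⟩ : ∃ v, v ≠ 0 ∧ f v v = 0 ∧ f v w0 = 0 := by
    obtain ⟨w1, hw1, hw1'⟩ := exists_perp hadd hsm (k := 1) (by omega) ![w0]
    have hw10 : f w1 w0 = 0 := by simpa using hw1' 0
    rcases hself w1 with h1 | h1
    · exact ⟨w1, hw1, h1, hw10⟩
    obtain ⟨w2, hw2, hw2'⟩ := exists_perp hadd hsm (k := 2) (by omega) ![w0, w1]
    have hw20 : f w2 w0 = 0 := by simpa using hw2' 0
    have hw21 : f w2 w1 = 0 := by simpa using hw2' 1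
    rcases hself w2 with h3 | h3
    · exact ⟨w2, hw2, h3, hw20⟩
    have hw12 : f w1 w2 = 0 := by rw [hherm, hw21, map_zero]
    refine ⟨w1 + w2, ?_, ?_, ?_⟩
    · intro h0
      have h4 : f (w1 + w2) w1 = 1 := by rw [hadd, h1, hw21, add_zero]
      rw [h0] at h4
      have h5 : f 0 w1 = 0 := by
        have := hsm 0 0 w1
        rwa [zero_smul, zero_mul] at this
      rw [h5] at h4
      exact zero_ne_one h4
    · rw [hadd, haddr, haddr, h1, h3, hw12, hw21]
      linear_combination h2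
    · rw [hadd, hw10, hw20, add_zero]
  have hwv : f w0 v = 0 := by rw [hherm, hvw, map_zero]
  set α := rk1 hadd hsm w0 v with hα
  set β := rk1 hadd hsm v w0 with hβ
  set γ := rk1 hadd hsm v v with hγ
  have eα : ∀ u, α u = f u w0 • v := fun u => rfl
  have eβ : ∀ u, β u = f u v • w0 := fun u => rfl
  have eγ : ∀ u, γ u = f u v • v := fun u => rfl
  set N : (ι → F) →ₗ[F] (ι → F) := α + β with hN
  have eN : ∀ u, N u = f u w0 • v + f u v • w0 := fun u => rfl
  set L : (ι → F) →ₗ[F] (ι → F) := LinearMap.id + α with hL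
  have eL : ∀ u, L u = u + f u w0 • v := fun u => rfl
  set K : (ι → F) →ₗ[F] (ι → F) := LinearMap.id + ω ^ 2 • α + ω • γ + ω • β with hK
  have eK : ∀ u, K u = u + (ω ^ 2 * f u w0 + ω * f u v) • v + (ω * f u v) • w0 := by
    intro u
    rw [hK]
    simp only [LinearMap.add_apply, LinearMap.smul_apply, eα, eβ, eγ, LinearMap.id_apply]
    module
  have char2 : ∀ v : ι → F, v + v = 0 := fun v => by rw [← two_smul F v, h2, zero_smul]
  have hω3 : ω ^ 3 = 1 := by linear_combination (ω - 1) * hω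
  have hL4 : ∀ u, L (L (L (L u))) = u := by
    intro u
    simp only [eL, hadd, hsm, hvw, mul_zero, add_zero]
    linear_combination (norm := module) ((2 * f u w0) * h2) • v
  have hK2 : ∀ u, K (K u) = u + f u v • v := by
    intro u
    simp only [eK, hadd, hsm, hvw, hvv, hwv, hw0, mul_zero, add_zero, mul_one]
    linear_combination (norm := module) ((ω ^ 2 * f u w0 + ω * f u v) * h2 + f u v * hω3) • v + (ω * f u v * h2) • w0
  have hK4 : ∀ u, K (K (K (K u))) = u := by
    intro u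
    rw [hK2, hK2, hadd, hsm, hvv]
    linear_combination (norm := module) (f u v * h2) • v
  refine kill_N h hadd hsm hnd hA (y := ofL L hL4) (g := ofL K hK4) (N := N) (ofL_mem _ _ hu3) (ofL_mem _ _ hu3)
    ?_ ?_ ?_ ?_ ?_
  · intro u w
    rw [ofL_act, ofL_act, eL, eL, eN, hadd, haddr, haddr, hadd, hadd, hsmr, hsmr, hsm, hsm, hsm, hvv, ← hherm,
      hherm w0 w]
    ring
  · intro u w
    rw [ofL_act, ofL_act, eK, eK]
    simp only [hadd, haddr, hsmr, hsm, hvv, hvw, hwv, hw0, map_add, map_mul, map_pow, hσω, ← hherm]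
    linear_combination (ω * f w0 w * f u v + f u v * f v w) * hω3 + (ω * f u v * f w0 w + ω ^ 2 * f v w * f u w0) * h2
      + f u v * f v w * hω
  · intro u
    simp only [eN, hadd, hsm, hvw, hvv, hwv, hw0, mul_zero, add_zero, mul_one, zero_smul, zero_add]
  · obtain ⟨u, hu⟩ := (hnd v hv0).1
    refine ⟨u, ?_⟩
    simp only [eN, hadd, hsm, hvw, hvv, hwv, hw0, mul_zero, add_zero, mul_one, zero_smul, zero_add]
    exact smul_ne_zero hu hv0
  · intro u
    simp only [ofL_act, eK, eN, hadd, hsm, hvw, hvv, hwv, hw0, mul_zero, add_zero, mul_one, zero_smul, zero_add]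
    linear_combination (norm := module) (f u v * hω - (ω + 1) * f u v * h2) • v

/-! ### L10: `F = F₂`, symplectic form, `n ≥ 6` -/

theorem L10 [Finite F] {A : Subgroup (GL ι F)} (hn : 6 ≤ Fintype.card ι) (h : EPL (specialLinear ι F) A)
    (hF : Nat.card F = 2)
    {f : (ι → F) → (ι → F) → F} (hf : IsSymplecticForm f) (hA : A ≤ similarityGroup f) : False := by
  classical
  have hadd := hf.bilinear.add_left
  have hsm := hf.bilinear.smul_left
  have haddr := hf.bilinear.add_right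
  have hsmr := hf.bilinear.smul_right
  have hnd := hf.nondegenerate
  have hself := hf.alternating
  have : Fintype F := Fintype.ofFinite F
  have hF' : Fintype.card F = 2 := by rw [← Nat.card_eq_fintype_card, hF]
  have h2 : (2 : F) = 0 := by
    have h4 : ((2 : ℕ) : F) = 0 := by rw [← hF']; exact FiniteField.cast_card_eq_zero F
    rw [← h4]; norm_num
  have hneg : ∀ a : F, -a = a := fun a => by linear_combination (-a) * h2
  have hsym : ∀ u w, f u w = f w u := fun u w => by rw [hf.skew, hneg]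
  have hel : ∀ a : F, a ≠ 0 → a = 1 := by
    intro a ha
    have := FiniteField.pow_card_sub_one_eq_one a ha
    rw [hF'] at this
    simpa using this
  have hu3 : ∀ c : Fˣ, c ^ 3 = 1 := fun c => by
    rw [show c = 1 from Units.ext (hel _ c.ne_zero), one_pow]
  have hne : ∃ u : ι → F, u ≠ 0 := by
    obtain ⟨i⟩ : Nonempty ι := Fintype.card_pos_iff.1 (by omega)
    exact ⟨Pi.single i 1, by simp⟩
  -- three hyperbolic pairs
  obtain ⟨e0, he0⟩ := hne
  obtain ⟨f2, hf2⟩ := (hnd e0 he0).2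
  replace hf2 := hel _ hf2
  obtain ⟨e1, he1, he1'⟩ := exists_perp hadd hsm (k := 2) (by omega) ![e0, f2]
  have he10 : f e1 e0 = 0 := by simpa using he1' 0
  have he1f2 : f e1 f2 = 0 := by simpa using he1' 1
  obtain ⟨g1, hg1⟩ := (hnd e1 he1).2
  replace hg1 := hel _ hg1
  obtain ⟨f1, hf1, hf10, hf1f2⟩ : ∃ f1, f e1 f1 = 1 ∧ f f1 e0 = 0 ∧ f f1 f2 = 0 := by
    refine ⟨g1 + f g1 f2 • e0 + f g1 e0 • f2, ?_, ?_, ?_⟩
    · rw [haddr, haddr, hsmr, hsmr, he10, he1f2, hg1]; ring
    · rw [hadd, hadd, hsm, hsm, hself, hsym f2, hf2]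
      linear_combination f g1 e0 * h2
    · rw [hadd, hadd, hsm, hsm, hself, hf2]
      linear_combination f g1 f2 * h2
  obtain ⟨e2, he2, he2'⟩ := exists_perp hadd hsm (k := 4) (by omega) ![e0, f2, e1, f1]
  have he20 : f e2 e0 = 0 := by simpa using he2' 0
  have he2f2 : f e2 f2 = 0 := by simpa using he2' 1
  have he21 : f e2 e1 = 0 := by simpa using he2' 2
  have he2f1 : f e2 f1 = 0 := by simpa using he2' 3
  obtain ⟨g2, hg2⟩ := (hnd e2 he2).2
  replace hg2 := hel _ hg2
  obtain ⟨f0, hf0, hf00, hf0f2, hf01, hf0f1⟩ : ∃ f0, f e2 f0 = 1 ∧ f f0 e0 = 0 ∧ f f0 f2 = 0 ∧ f f0 e1 = 0 ∧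
      f f0 f1 = 0 := by
    refine ⟨g2 + f g2 f2 • e0 + f g2 e0 • f2 + f g2 f1 • e1 + f g2 e1 • f1, ?_, ?_, ?_, ?_, ?_⟩
    · simp only [haddr, hsmr, he20, he2f2, he21, he2f1, hg2]; ring
    · simp only [hadd, hsm, hself, hsym f2 e0, hf2, he10, hf10]
      linear_combination f g2 e0 * h2
    · simp only [hadd, hsm, hself, hf2, he1f2, hf1f2]
      linear_combination f g2 f2 * h2
    · simp only [hadd, hsm, hself, hsym e0 e1, hsym f2 e1, he10, he1f2, hsym f1 e1, hf1]
      linear_combination f g2 e1 * h2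
    · simp only [hadd, hsm, hself, hsym e0 f1, hsym f2 f1, hf10, hf1f2, hf1]
      linear_combination f g2 f1 * h2
  have q1 : f e0 e1 = 0 := by rw [hsym, he10]
  have q2 : f f2 e1 = 0 := by rw [hsym, he1f2]
  have q3 : f e0 f1 = 0 := by rw [hsym, hf10]
  have q4 : f f2 f1 = 0 := by rw [hsym, hf1f2]
  have q5 : f e0 e2 = 0 := by rw [hsym, he20]
  have q6 : f f2 e2 = 0 := by rw [hsym, he2f2]
  have q7 : f e1 e2 = 0 := by rw [hsym, he21]
  have q8 : f f1 e2 = 0 := by rw [hsym, he2f1]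
  have q9 : f f0 e2 = 1 := by rw [hsym, hf0]
  have q10 : f e0 f0 = 0 := by rw [hsym, hf00]
  have q11 : f f2 f0 = 0 := by rw [hsym, hf0f2]
  have q12 : f e1 f0 = 0 := by rw [hsym, hf01]
  have q13 : f f1 f0 = 0 := by rw [hsym, hf0f1]
  have q14 : f f2 e0 = 1 := by rw [hsym, hf2]
  have q15 : f f1 e1 = 1 := by rw [hsym, hf1]
  set L : (ι → F) →ₗ[F] (ι → F) := LinearMap.id + rk1 hadd hsm f2 e1 + rk1 hadd hsm f1 e2 with hL
  have eL : ∀ u, L u = u + f u f2 • e1 + f u f1 • e2 := fun u => rfl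
  set K : (ι → F) →ₗ[F] (ι → F) := LinearMap.id + rk1 hadd hsm f2 e1 + rk1 hadd hsm e1 f2 with hK
  have eK : ∀ u, K u = u + f u f2 • e1 + f u e1 • f2 := fun u => rfl
  set N : (ι → F) →ₗ[F] (ι → F) := rk1 hadd hsm f2 e1 + rk1 hadd hsm f1 e2 + rk1 hadd hsm e2 f1 +
    rk1 hadd hsm e1 f2 with hN
  have eN : ∀ u, N u = f u f2 • e1 + f u f1 • e2 + f u e2 • f1 + f u e1 • f2 := fun u => rfl
  have hL4 : ∀ u, L (L (L (L u))) = u := by
    intro u
    simp only [eL, hadd, hsm, he1f2, he2f2, hf1, he2f1, mul_zero, add_zero, mul_one]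
    linear_combination (norm := module) (2 * f u f2 * h2) • e1 + ((2 * f u f1 + 3 * f u f2) * h2) • e2
  have hK4 : ∀ u, K (K (K (K u))) = u := by
    intro u
    simp only [eK, hadd, hsm, hself, he1f2, q2, mul_zero, add_zero]
    linear_combination (norm := module) (2 * f u f2 * h2) • e1 + (2 * f u e1 * h2) • f2
  refine kill_N h hadd hsm hnd hA (y := ofL L hL4) (g := ofL K hK4) (N := N) (ofL_mem _ _ hu3) (ofL_mem _ _ hu3)
    ?_ ?_ ?_ ?_ ?_
  · intro u w
    simp only [ofL_act, eL, eN, hadd, haddr, hsmr, hsm, hself, q7, he21, hsym f1 w, hsym f2 w]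
    ring
  · intro u w
    simp only [ofL_act, eK, hadd, haddr, hsmr, hsm, hself, he1f2, q2, hsym e1 w, hsym f2 w]
    linear_combination (f w f2 * f u e1 + f w e1 * f u f2) * h2
  · intro u
    simp only [eN, hadd, hsm, hself, he1f2, hf1, q7, he2f2, he2f1, he21, hf1f2, q8, q15, q4, q6, q2, mul_zero,
      add_zero, mul_one, zero_smul, zero_add]
  · refine ⟨e0, ?_⟩
    simp only [eN, hadd, hsm, hself, he1f2, hf1, q7, he2f2, he2f1, he21, hf1f2, q8, q15, q4, q6, q2, mul_zero,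
      add_zero, mul_one, zero_smul, zero_add]
    rw [hf2, q5, one_smul, zero_smul, add_zero]
    exact he2
  · intro u
    simp only [ofL_act, eK, eN, hadd, hsm, hself, he1f2, hf1, q7, he2f2, he2f1, he21, hf1f2, q8, q15, q4, q6, q2,
      mul_zero, add_zero, mul_one, zero_smul, zero_add]
    linear_combination (norm := module) (-(f u f2) * h2) • e2

end Cfsg.Agent.H88.EP
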